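import Groth.Agent.BigPBC.Desc
import Groth.Agent.SiteBase.LerayDegen
import Groth.Agent.SiteBase.SESResLib
import Mathlib.CategoryTheory.Adjunction.Restrict

/-!
# Comparison of small etale sites with finer big sites
-/

set_option autoImplicit false
set_option linter.style.haveILetI false
set_option linter.unusedSectionVars false
set_option backward.isDefEq.respectTransparency.types false

universe u

open CategoryTheory CategoryTheory.Limits AlgebraicGeometry Opposite CategoryTheory.Abelian

attribute [-instance] CategoryTheory.catToReflQuiver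

noncomputable section

namespace Groth.Agent.BigPBC

open BigSiteLib

local notation "et" => Scheme.etalePrecoverage

variable {K : Precoverage Scheme.{u}} [PiTop K] {X Y : Scheme.{u}}

instance aEtCont (X : Scheme.{u}) : BigSite.AEtCont K X := BigSite.aEtCont_of_le PiTop.le X

variable (K X) in
/-- Pullbacks from the small site as a functor. -/
def piKFun : EtCoh.Ab X ⥤ BigSite.Ab K X where
  obj F := piK K F
  map φ := piKMap K φ
  map_id F := (epsX K X).map_injective ((BigSite.piEtPull et X).map_id F)
  map_comp φ ψ := (epsX K X).map_injective ((BigSite.piEtPull et X).map_comp φ ψ)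

variable (K X) in
/-- Restriction factors through the big etale site. -/
def resEpsIso : BigSite.resEt K X ≅ epsX K X ⋙ BigSite.resEt et X :=
  NatIso.ofComponents (fun _ => Iso.refl _) (fun _ => (Category.comp_id _).trans (Category.id_comp _).symm)

/-- The bijection of the adjunction for pullbacks of small sheaves. -/
def piKHomEquiv (F : EtCoh.Ab X) (G : BigSite.Ab K X) :
    ((piKFun K X).obj F ⟶ G) ≃ (F ⟶ (BigSite.resEt K X).obj G) where
  toFun φ := (BigSite.piEtAdj et X).homEquiv F ((epsX K X).obj G) ((epsX K X).map φ)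
  invFun ψ := (epsX K X).preimage (X := piK K F) (Y := G) (((BigSite.piEtAdj et X).homEquiv F ((epsX K X).obj G)).symm ψ)
  left_inv φ := (epsX K X).map_injective (((epsX K X).map_preimage _).trans
    (((BigSite.piEtAdj et X).homEquiv F ((epsX K X).obj G)).symm_apply_apply ((epsX K X).map φ)))
  right_inv ψ := by
    refine (congrArg ((BigSite.piEtAdj et X).homEquiv F ((epsX K X).obj G))
      ((epsX K X).map_preimage (X := piK K F) (Y := G) _)).trans ?_
    exact ((BigSite.piEtAdj et X).homEquiv F ((epsX K X).obj G)).apply_symm_apply ψ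

variable (K X) in
/-- The adjunction for pullbacks of small sheaves. -/
def piKAdj : piKFun K X ⊣ BigSite.resEt K X :=
  Adjunction.mkOfHomEquiv
    { homEquiv := piKHomEquiv
      homEquiv_naturality_left_symm := fun {F F' G} a b => (piKHomEquiv F G).injective (by
        rw [Equiv.apply_symm_apply]
        show _ = (BigSite.piEtAdj et X).homEquiv F ((epsX K X).obj G)
          ((BigSite.piEtPull et X).map a ≫ (epsX K X).map ((piKHomEquiv F' G).symm b))
        rw [Adjunction.homEquiv_naturality_left]
        exact congrArg (a ≫ ·) ((piKHomEquiv F' G).apply_symm_apply b).symm)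
      homEquiv_naturality_right := fun {F G G'} a b => by
        show (BigSite.piEtAdj et X).homEquiv F _ ((epsX K X).map (a ≫ b)) = _
        rw [Functor.map_comp]
        exact (BigSite.piEtAdj et X).homEquiv_naturality_right _ _ }

theorem piKAdj_unit (F : EtCoh.Ab X) : IsIso ((piKAdj K X).unit.app F) := by
  have h : (piKAdj K X).unit.app F = (BigSite.piEtAdj et X).unit.app F := by
    show piKHomEquiv F _ (𝟙 _) = _
    show (BigSite.piEtAdj et X).homEquiv F _ ((epsX K X).map (𝟙 (piK K F))) = _
    rw [CategoryTheory.Functor.map_id]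
    exact (BigSite.piEtAdj et X).homEquiv_id F
  rw [h]
  exact isIso_unit X F

variable (K X) in
/-- The pullback to the finer site. -/
def pullIso : BigSite.piEtPull K X ≅ piKFun K X := (BigSite.piEtAdj K X).leftAdjointUniq (piKAdj K X)

theorem isIso_unit_K (F : EtCoh.Ab X) : IsIso ((BigSite.piEtAdj K X).unit.app F) := by
  haveI := piKAdj_unit (K := K) F
  have h := (BigSite.piEtAdj K X).unit_leftAdjointUniq_hom_app (piKAdj K X) F
  haveI : IsIso ((BigSite.piEtAdj K X).unit.app F ≫ (BigSite.resEt K X).map ((pullIso K X).hom.app F)) := by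
    rw [pullIso, h]
    infer_instance
  exact IsIso.of_isIso_comp_right _ ((BigSite.resEt K X).map ((pullIso K X).hom.app F))

/-- Restriction to the big etale site. -/
def epsPullIso (F : EtCoh.Ab X) :
    (epsX K X).obj ((BigSite.piEtPull K X).obj F) ≅ (BigSite.piEtPull et X).obj F :=
  (epsX K X).mapIso ((pullIso K X).app F)

theorem isRightAcyclic_pull (hK : Refines K) (F : EtCoh.Ab X) (hF : EtCoh.IsTorsion F) :
    TriCat.IsRightAcyclic (epsX K X) ((BigSite.piEtPull K X).obj F) := fun i hi => by
  obtain ⟨m, rfl⟩ := Nat.exists_eq_succ_of_ne_zero hi.ne'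
  exact (isZero_rightDerived_piK (acy hK m X F hF)).of_iso
    (((epsX K X).rightDerived (m + 1)).mapIso ((pullIso K X).app F))

theorem isZero_RresEt_K (hK : Refines K) (F : EtCoh.Ab X) (hF : EtCoh.IsTorsion F) (q : ℕ) :
    IsZero ((BigSite.RresEt K X (q + 1)).obj ((BigSite.piEtPull K X).obj F)) :=
  (Functor.map_isZero (BigSite.resEt et X) (isRightAcyclic_pull hK F hF (q + 1) q.succ_pos)).of_iso
    ((rightDerivedIso (resEpsIso K X) (q + 1)).app _ ≪≫
      (SiteBase.rightDerivedCompIso (epsX K X) (BigSite.resEt et X) (q + 1)).app _)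

/-- Global sections of the restriction. -/
def sectEquiv (G : BigSite.Ab K X) : EtCoh.H X ((BigSite.resEt K X).obj G) 0 ≃+ BigSite.H K X G 0 :=
  (Sheaf.H.equiv₀ ((BigSite.resEt K X).obj G) (EtCore.topIsTerminal X)).trans
    ((G.obj.mapIso (Over.isoMk (Iso.refl _) rfl : (EtFppf.a X).obj (EtCoh.top X) ≅ Over.mk (𝟙 X)).symm.op).addCommGroupIsoToAddEquiv.trans
      (Sheaf.H.equiv₀ G Over.mkIdTerminal).symm)

theorem sectEquiv_natural {G G' : BigSite.Ab K X} (φ : G ⟶ G') (y : BigSite.H K X G 0) :
    (sectEquiv G').symm (y.comp (Ext.mk₀ φ) (add_zero 0)) =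
      ((sectEquiv G).symm y).comp (Ext.mk₀ ((BigSite.resEt K X).map φ)) (add_zero 0) := by
  refine (sectEquiv G').injective ?_
  rw [AddEquiv.apply_symm_apply]
  have h : ∀ z : EtCoh.H X ((BigSite.resEt K X).obj G) 0,
      sectEquiv G' (z.comp (Ext.mk₀ ((BigSite.resEt K X).map φ)) (add_zero 0)) =
        (sectEquiv G z).comp (Ext.mk₀ φ) (add_zero 0) := fun z => by
    refine (congrArg (fun t => (Sheaf.H.equiv₀ G' Over.mkIdTerminal).symm
      ((G'.obj.mapIso (Over.isoMk (Iso.refl _) rfl : (EtFppf.a X).obj (EtCoh.top X) ≅ Over.mk (𝟙 X)).symm.op).addCommGroupIsoToAddEquiv t))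
      (Sheaf.H.equiv₀_naturality (EtCore.topIsTerminal X) ((BigSite.resEt K X).map φ) z).symm).trans ?_
    refine Eq.trans ?_ (Sheaf.H.equiv₀_symm_naturality Over.mkIdTerminal φ _).symm
    exact congrArg _ (ConcreteCategory.congr_hom (φ.hom.naturality
      (Over.isoMk (Iso.refl _) rfl : (EtFppf.a X).obj (EtCoh.top X) ≅ Over.mk (𝟙 X)).symm.op.hom) _).symm
  rw [h, AddEquiv.apply_symm_apply]

theorem injective_resEt_K (I : BigSite.Ab K X) [Injective I] : Injective ((BigSite.resEt K X).obj I) :=
  BigSiteLib.injective_resEt X K I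

theorem H_iso_K (hK : Refines K) (F : EtCoh.Ab X) (hF : EtCoh.IsTorsion F) (q : ℕ) :
    Nonempty (EtCoh.H X F q ≃+ BigSite.H K X ((BigSite.piEtPull K X).obj F) q) := by
  haveI : (BigSite.resEt K X).IsRightAdjoint := (BigSite.piEtAdj K X).isRightAdjoint
  haveI : PreservesFiniteLimits (BigSite.resEt K X) := inferInstance
  haveI := isIso_unit_K (K := K) F
  obtain ⟨e⟩ := LerayDegen.ext_equiv_of_rightDerived _ _ (BigSite.resEt K X) (fun I hI => @injective_resEt_K K _ X I hI)
    (fun G => (sectEquiv G).symm) (fun φ y => sectEquiv_natural φ y) (SESResLib.derivedLES (BigSite.resEt K X))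
    ((BigSite.piEtPull K X).obj F) (isZero_RresEt_K hK F hF) q
  exact ⟨((EtCoh.HF X q).mapIso (asIso ((BigSite.piEtAdj K X).unit.app F))).addCommGroupIsoToAddEquiv.trans e.symm⟩

theorem pull_Rpush_iso (hK : Refines K) (f : X ⟶ Y) [IsProper f] (F : EtCoh.Ab X) (hF : EtCoh.IsTorsion F) (i : ℕ) :
    Nonempty ((BigSite.piEtPull K Y).obj ((EtCoh.Rpush f i).obj F) ≅
      (BigSite.RpushBig K f i).obj ((BigSite.piEtPull K X).obj F)) := by
  obtain ⟨e⟩ := Rpush_piK_iso f i _ F (fun k hk => by
    obtain ⟨m, rfl⟩ := Nat.exists_eq_succ_of_ne_zero hk.ne'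
    exact isZero_rightDerived_piK (acy hK m X F hF)) (piPull_Rpush_iso_proper f i F hF)
  exact ⟨(pullIso K Y).app _ ≪≫ e ≪≫ (BigSite.RpushBig K f i).mapIso ((pullIso K X).app F).symm⟩

end Groth.Agent.BigPBC
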