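import Groth.Agent.BigPBC.Gen
import Groth.Agent.BigSiteLib.FppfDesc.Main
import Groth.Agent.BigSiteLib.FppfDesc.Approx
import Groth.Agent.SiteBase.DerivedPrecomp

/-!
# Cohomological descent for torsion sheaves along proper surjective morphisms
-/

set_option autoImplicit false
set_option linter.style.haveILetI false
set_option linter.unusedSectionVars false
set_option backward.isDefEq.respectTransparency.types false

universe u

open CategoryTheory CategoryTheory.Limits AlgebraicGeometry Opposite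

attribute [-instance] CategoryTheory.catToReflQuiver

noncomputable section

namespace Groth.Agent.BigPBC

open BigSiteLib
open BigSiteLib.FppfDesc (exact_of_locally_boundary locally_boundary exists_kernel_section exists_coboundary scAt
  exactAt_of_scAt scAt_of_exactAt transportRes InPi inPi_pi inPi_of_iso inPi_cokernel app_injective_of_mono)

local notation "et" => Scheme.etalePrecoverage

/-- A section which is locally in the image of a morphism lies in the image sheaf. -/
theorem exists_image_section {C : Type (u + 1)} [Category.{u} C] {J : GrothendieckTopology C}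
    [HasSheafify J AddCommGrpCat.{u + 1}] [J.WEqualsLocallyBijective AddCommGrpCat.{u + 1}]
    {A B : Sheaf J AddCommGrpCat.{u + 1}} (d : A ⟶ B) {U : C} (x : B.obj.obj (op U))
    (h : Presheaf.imageSieve d.hom x ∈ J U) :
    ∃ x' : (Abelian.image d).obj.obj (op U), (Abelian.image.ι d).hom.app (op U) x' = x := by
  refine exists_kernel_section (cokernel.π d) x ?_
  refine (((isSheaf_iff_isSheaf_of_type _ _).1 ((Presheaf.isSheaf_iff_isSheaf_forget J _
    (forget AddCommGrpCat.{u + 1})).1 (cokernel d).property)) _ h).isSeparatedFor.ext fun V k hk => ?_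
  obtain ⟨y, hy⟩ := hk
  show (cokernel d).obj.map k.op ((cokernel.π d).hom.app (op U) x) = (cokernel d).obj.map k.op 0
  rw [map_zero, ← ConcreteCategory.comp_apply, ← (cokernel.π d).hom.naturality k.op, ConcreteCategory.comp_apply,
    ← hy, ← ConcreteCategory.comp_apply]
  exact congrArg (fun t => t.hom.app (op V) y) (cokernel.condition d)

section push

variable {X Y : Scheme.{u}} (p : Y ⟶ X)

/-- Cocycles which are locally coboundaries upstairs are locally coboundaries for the direct image. -/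
theorem boundary_push (E : CochainComplex (BigSite.Ab et Y) ℕ)
    (hE : ∀ k, TriCat.IsRightAcyclic (BigSite.pushBig et p AddCommGrpCat.{u + 1}) (E.X k))
    (hZ : TriCat.IsRightAcyclic (BigSite.pushBig et p AddCommGrpCat.{u + 1}) (kernel (E.d 0 1))) (m : ℕ)
    (hex : ∀ k, k < m → (scAt E k).Exact) (U : Over X)
    (x : (E.X (m + 1)).obj.obj (op ((Over.pullback p).obj U)))
    (hloc : Presheaf.imageSieve (E.d m (m + 1)).hom x ∈ QuotSh.J et Y ((Over.pullback p).obj U)) :
    Presheaf.imageSieve ((BigSite.pushBig et p AddCommGrpCat.{u + 1}).map (E.d m (m + 1))).hom (U := U) x ∈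
      QuotSh.J et X U := by
  let Q := BigSite.pushBig et p AddCommGrpCat.{u + 1}
  haveI : Q.IsRightAdjoint := (BigSite.bigAdj et p AddCommGrpCat.{u + 1}).isRightAdjoint
  letI := HasDerivedCategory.standard (BigSite.Ab et Y)
  letI := HasDerivedCategory.standard (BigSite.Ab et X)
  have key : ∀ k, k ≤ m → TriCat.IsRightAcyclic Q (kernel (E.d k (k + 1))) := by
    intro k
    induction k with
    | zero => exact fun _ => hZ
    | succ k ih =>
      intro hk
      let S : ShortComplex (BigSite.Ab et Y) := ShortComplex.mk (kernel.ι (E.d k (k + 1)))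
        (kernel.lift (E.d (k + 1) (k + 1 + 1)) (E.d k (k + 1)) (E.d_comp_d _ _ _))
        ((cancel_mono (kernel.ι _)).1 (by rw [Category.assoc, kernel.lift_ι, kernel.condition, zero_comp]))
      haveI : Mono S.f := inferInstanceAs (Mono (kernel.ι _))
      haveI : Epi S.g := (ShortComplex.exact_iff_epi_kernel_lift _).1 (hex k (by omega))
      have hS : S.ShortExact :=
        { exact := ShortComplex.exact_of_f_is_kernel _ (KernelFork.IsLimit.ofι' _ _ fun {W} a ha =>
            ⟨kernel.lift _ a (by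
              rw [← kernel.lift_ι (E.d (k + 1) (k + 1 + 1)) (E.d k (k + 1)) (E.d_comp_d _ _ _), ← Category.assoc]
              exact (congrArg (· ≫ _) ha).trans zero_comp), kernel.lift_ι _ _ _⟩) }
      exact TriCat.acyclic₃ hS (ih (by omega)) (hE k)
  let d := E.d m (m + 1)
  let b := Abelian.factorThruImage d
  let S : ShortComplex (BigSite.Ab et Y) := ShortComplex.mk (kernel.ι d) b
    ((cancel_mono (Abelian.image.ι d)).1 (by rw [Category.assoc, Abelian.image.fac, kernel.condition, zero_comp]))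
  have hS : S.ShortExact :=
    { exact := ShortComplex.exact_of_f_is_kernel _ (KernelFork.IsLimit.ofι' _ _ fun {W} a ha =>
        ⟨kernel.lift d a (by
          rw [← Abelian.image.fac d, ← Category.assoc, show a ≫ Abelian.factorThruImage d = 0 from ha, zero_comp]),
          kernel.lift_ι _ _ _⟩)
      mono_f := inferInstanceAs (Mono (kernel.ι d))
      epi_g := inferInstanceAs (Epi (Abelian.factorThruImage d)) }
  haveI : Epi (Q.map b) := (TriCat.shortExact_map_of_subsingleton hS (key m le_rfl 1 Nat.one_pos)).epi_g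
  obtain ⟨x', hx'⟩ := exists_image_section d x hloc
  haveI := (Sheaf.isLocallySurjective_iff_epi' AddCommGrpCat.{u + 1} (Q.map b)).2 inferInstance
  refine GrothendieckTopology.superset_covering _ ?_ (Presheaf.imageSieve_mem (QuotSh.J et X) (Q.map b).hom x')
  rintro V k ⟨z, hz⟩
  refine ⟨z, ?_⟩
  show d.hom.app (op ((Over.pullback p).obj V)) z = (E.X (m + 1)).obj.map ((Over.pullback p).map k).op x
  rw [← hx']
  refine Eq.trans ?_ (ConcreteCategory.congr_hom ((Abelian.image.ι d).hom.naturality ((Over.pullback p).map k).op) x')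
  refine Eq.trans ?_ (congrArg ((Abelian.image.ι d).hom.app (op ((Over.pullback p).obj V))) hz)
  exact (congrArg (fun t => t.hom.app (op ((Over.pullback p).obj V)) z) (Abelian.image.fac d).symm).trans
    (ConcreteCategory.comp_apply _ _ z)

end push

variable (K : Precoverage Scheme.{u}) [PiTop K]

/-- Coverings are refined by etale neighbourhoods and Zariski coverings of proper surjective morphisms. -/
def Refines : Prop :=
  ∀ ⦃T : Scheme.{u}⦄ (R : Sieve T), R ∈ K.toGrothendieck T → ∀ t : T,
    ∃ (U U' : Scheme.{u}) (g : U ⟶ T) (p : U' ⟶ U), Etale g ∧ t ∈ Set.range g ∧ IsProper p ∧ Surjective p ∧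
      ∀ z : U', ∃ W : U'.Opens, z ∈ W ∧ R (W.ι ≫ p ≫ g)

/-- Pullbacks of small torsion sheaves have no higher direct images in degree `m + 1`. -/
def Acy (m : ℕ) (X : Scheme.{u}) (F : EtCoh.Ab X) : Prop :=
  ∀ I : InjectiveResolution (piK K F), ((scAt I.cocomplex m).map (epsX K X)).Exact

variable {K} {X Y : Scheme.{u}}

theorem isZero_rightDerived_piK {m : ℕ} {F : EtCoh.Ab X} (h : Acy K m X F) :
    IsZero (((epsX K X).rightDerived (m + 1)).obj (piK K F)) := by
  let I := injectiveResolution (piK K F)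
  refine IsZero.of_iso ?_ (I.isoRightDerivedObj (epsX K X) (m + 1))
  exact (HomologicalComplex.exactAt_iff_isZero_homology _ _).1
    (exactAt_of_scAt (((epsX K X).mapHomologicalComplex _).obj I.cocomplex) m (h I))

section proper

variable (p : Y ⟶ X) (F : EtCoh.Ab X) (T : EtCoh.Ab Y) (j₀ : (EtCoh.pull p).obj F ⟶ T)

variable (K) in
/-- The pullback into an acyclic sheaf. -/
def aT : (BigSite.pullBig K p AddCommGrpCat.{u + 1}).obj (piK K F) ⟶ piK K T :=
  (piKPullIso K p F).inv ≫ piKMap K j₀

variable (K) in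
/-- The comparison with the direct image of an acyclic sheaf. -/
def jT : piK K F ⟶ (BigSite.pushBig K p AddCommGrpCat.{u + 1}).obj (piK K T) :=
  (BigSite.bigAdj K p AddCommGrpCat.{u + 1}).unit.app (piK K F) ≫
    (BigSite.pushBig K p AddCommGrpCat.{u + 1}).map (aT K p F T j₀)

variable [IsProper p]

theorem mono_unit_pi [Surjective p] : Mono ((BigSite.bigAdj et p AddCommGrpCat.{u + 1}).unit.app
    ((BigSite.piEtPull et X).obj F)) := by
  refine (sheafToPresheaf _ _).mono_of_mono_map ?_
  have : ∀ W, Mono (((BigSite.bigAdj et p AddCommGrpCat.{u + 1}).unit.app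
      ((BigSite.piEtPull et X).obj F)).hom.app W) := fun W => by
    refine (AddCommGrpCat.mono_iff_injective _).2 fun a b h => ?_
    haveI : Surjective (pullback.fst W.unop.hom p) := MorphismProperty.pullback_fst (P := @Surjective) _ _ ‹Surjective p›
    exact EtInd.ext_fam (etInduced_piP F) (I := PUnit.{1})
      (T := fun _ => (Over.map p).obj ((Over.pullback p).obj W.unop))
      (fun _ => (Over.mapPullbackAdj p).counit.app W.unop)
      (fun y => ⟨PUnit.unit, (pullback.fst W.unop.hom p).surjective y⟩) fun _ => h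
  exact @NatTrans.mono_of_mono_app _ _ _ _ _ _ _ this

theorem mono_eps_jT [Surjective p] [Mono j₀] : Mono ((epsX K X).map (jT K p F T j₀)) := by
  haveI := piEtPull_exact Y et
  haveI : (BigSite.pushBig et p AddCommGrpCat.{u + 1}).IsRightAdjoint :=
    (BigSite.bigAdj et p AddCommGrpCat.{u + 1}).isRightAdjoint
  haveI : Mono ((epsX K Y).map (piKMap K j₀)) := inferInstanceAs (Mono ((BigSite.piEtPull et Y).map j₀))
  haveI : Mono ((epsX K Y).map (aT K p F T j₀)) := by
    rw [aT, Functor.map_comp]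
    infer_instance
  haveI : Mono ((epsX K X).map ((BigSite.bigAdj K p AddCommGrpCat.{u + 1}).unit.app (piK K F))) := mono_unit_pi p F
  haveI : Mono ((epsX K X).map ((BigSite.pushBig K p AddCommGrpCat.{u + 1}).map (aT K p F T j₀))) :=
    inferInstanceAs (Mono ((BigSite.pushBig et p AddCommGrpCat.{u + 1}).map ((epsX K Y).map (aT K p F T j₀))))
  rw [jT, Functor.map_comp]
  infer_instance

theorem exists_short [Surjective p] [Mono j₀] (hT : EtCoh.IsTorsion T) :
    ∃ (H : BigSite.Ab K X) (g : (BigSite.pushBig K p AddCommGrpCat.{u + 1}).obj (piK K T) ⟶ H)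
      (w : jT K p F T j₀ ≫ g = 0) (F₁ : EtCoh.Ab X), EtCoh.IsTorsion F₁ ∧ Nonempty (piK K F₁ ≅ H) ∧
      (ShortComplex.mk _ g w).ShortExact ∧ Epi ((epsX K X).map g) := by
  let M := (BigSite.pushBig K p AddCommGrpCat.{u + 1}).obj (piK K T)
  let j := jT K p F T j₀
  haveI : Mono ((epsX K X).map j) := mono_eps_jT p F T j₀
  haveI : Mono j := (epsX K X).mono_of_mono_map inferInstance
  haveI := H0PBC.isIso_theta_proper p T
  let eM : (BigSite.piEtPull et X).obj ((EtCoh.push p).obj T) ≅ (epsX K X).obj M := @asIso _ _ _ _ (theta p T) (H0PBC.isIso_theta_proper p T)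
  have hA : InPi ((epsX K X).obj (piK K F)) := inPi_pi F
  have hB : InPi ((epsX K X).obj M) := inPi_of_iso eM (inPi_pi _)
  have hK := inPi_cokernel ((epsX K X).map j) hA hB
  let H : BigSite.Ab K X := ofInPi hK
  let g : M ⟶ H := (epsX K X).preimage (show (epsX K X).obj M ⟶ (epsX K X).obj H from cokernel.π ((epsX K X).map j))
  have hg : (epsX K X).map g = cokernel.π ((epsX K X).map j) := (epsX K X).map_preimage _
  have w : j ≫ g = 0 := (epsX K X).map_injective (by
    rw [Functor.map_comp, hg, Functor.map_zero]; exact cokernel.condition _)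
  haveI : Epi ((epsX K X).map g) := by rw [hg]; exact (inferInstance : Epi (cokernel.π ((epsX K X).map j)))
  haveI : Epi g := (epsX K X).epi_of_epi_map inferInstance
  have hex : ((ShortComplex.mk j g w).map (epsX K X)).Exact := by
    refine ShortComplex.exact_of_g_is_cokernel _ (IsColimit.ofIsoColimit (cokernelIsCokernel ((epsX K X).map j)) ?_)
    exact Cofork.ext (Iso.refl _) ((Category.comp_id _).trans hg.symm)
  let F₁ := (BigSite.resEt et X).obj (cokernel ((epsX K X).map j))
  have hF₁ : EtCoh.IsTorsion F₁ := by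
    haveI := isIso_unit X ((EtCoh.push p).obj T)
    haveI : (EtCoh.push p).Additive := (EtCoh.pullPushAdj p).right_adjoint_additive
    haveI : (EtCoh.push p).IsRightAdjoint := (EtCoh.pullPushAdj p).isRightAdjoint
    refine isTorsion_of_epi ((BigSite.resEt et X).map (cokernel.π ((epsX K X).map j))) ?_
    exact PBCThm.isTorsion_of_iso (((EtCoh.push p).rightDerivedZeroIsoSelf.app T) ≪≫
      @asIso _ _ _ _ ((BigSite.piEtAdj et X).unit.app ((EtCoh.push p).obj T)) (isIso_unit X _) ≪≫ (BigSite.resEt et X).mapIso eM)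
      (EtLC12.RpushTorsion.isTorsion_Rpush p T hT 0)
  haveI : IsIso ((BigSite.piEtAdj et X).counit.app (cokernel ((epsX K X).map j))) := hK
  exact ⟨H, g, w, F₁, hF₁,
    ⟨isoPiK F₁ (@asIso _ _ _ _ ((BigSite.piEtAdj et X).counit.app (cokernel ((epsX K X).map j))) hK)⟩,
    ShortComplex.ShortExact.mk' (exact_of_eps hex) inferInstance inferInstance, inferInstance⟩

theorem mono_rightDerived_jT [Surjective p] [Mono j₀] (hT : EtCoh.IsTorsion T) (m : ℕ)
    (ih : ∀ k < m, ∀ F₁ : EtCoh.Ab X, EtCoh.IsTorsion F₁ → Acy K k X F₁) :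
    Mono (((epsX K X).rightDerived (m + 1)).map (jT K p F T j₀)) := by
  obtain ⟨H, g, w, F₁, hF₁, ⟨e₃⟩, hS, hg⟩ := exists_short (K := K) p F T j₀ hT
  letI := HasDerivedCategory.standard (BigSite.Ab K X)
  letI := HasDerivedCategory.standard (BigSite.Ab et X)
  obtain ⟨δ, w₁, w₂, w₃, -, h₂, h₃⟩ := TriCat.exists_rightDerived_ses (epsX K X) hS m
  refine h₃.mono_g ?_
  show δ = 0
  rcases m with _ | k
  · have hn : ((epsX K X).rightDerived 0).map g ≫ (epsX K X).rightDerivedZeroIsoSelf.hom.app H =
        (epsX K X).rightDerivedZeroIsoSelf.hom.app _ ≫ (epsX K X).map g :=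
      (epsX K X).rightDerivedZeroIsoSelf.hom.naturality g
    haveI := hg
    haveI : Epi (((epsX K X).rightDerived 0).map g) := by
      have : ((epsX K X).rightDerived 0).map g = (epsX K X).rightDerivedZeroIsoSelf.hom.app _ ≫ (epsX K X).map g ≫
          inv ((epsX K X).rightDerivedZeroIsoSelf.hom.app H) := by
        rw [← Category.assoc, ← hn, Category.assoc, IsIso.hom_inv_id, Category.comp_id]
      rw [this]; infer_instance
    exact (cancel_epi (((epsX K X).rightDerived 0).map g)).1 (by rw [comp_zero]; exact w₂)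
  · exact ((isZero_rightDerived_piK (ih k k.lt_succ_self F₁ hF₁)).of_iso
      (((epsX K X).rightDerived (k + 1)).mapIso e₃).symm).eq_of_src _ _

end proper

/-- Cocycles which are locally coboundaries on a proper surjective cover are locally coboundaries. -/
theorem boundary_of_proper (m : ℕ)
    (ih : ∀ k < m, ∀ (X : Scheme.{u}) (F : EtCoh.Ab X), EtCoh.IsTorsion F → Acy K k X F)
    (p : Y ⟶ X) [IsProper p] [Surjective p] {F : EtCoh.Ab X} (hF : EtCoh.IsTorsion F)
    (I : InjectiveResolution (piK K F))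
    (U : Over X) (x : (I.cocomplex.X (m + 1)).obj.obj (op U))
    (hx : (I.cocomplex.d (m + 1) (m + 2)).hom.app (op U) x = 0)
    (hloc : Presheaf.imageSieve ((BigSite.pullBig K p AddCommGrpCat.{u + 1}).map (I.cocomplex.d m (m + 1))).hom
      (U := (Over.pullback p).obj U) ((I.cocomplex.X (m + 1)).obj.map ((Over.mapPullbackAdj p).counit.app U).op x) ∈
        QuotSh.J et Y ((Over.pullback p).obj U)) :
    Presheaf.imageSieve (I.cocomplex.d m (m + 1)).hom x ∈ QuotSh.J et X U := by
  obtain ⟨T, j₀, _, hT, -, hU⟩ := exists_embedding (Y := X) (X := Y) p ((EtCoh.pull p).obj F)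
    (H9Transfer.isTorsion_pull p F hF)
  let P := BigSite.pushBig K p AddCommGrpCat.{u + 1}
  let R := BigSite.pullBig K p AddCommGrpCat.{u + 1}
  let Q := BigSite.pushBig et p AddCommGrpCat.{u + 1}
  haveI : P.IsRightAdjoint := (BigSite.bigAdj K p AddCommGrpCat.{u + 1}).isRightAdjoint
  haveI : Q.IsRightAdjoint := (BigSite.bigAdj et p AddCommGrpCat.{u + 1}).isRightAdjoint
  let adj := BigSite.bigAdj K p AddCommGrpCat.{u + 1}
  let a := aT K p F T j₀
  let JT := injectiveResolution (piK K T)
  let RI := SiteBase.mapResolution R I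
  let ψ := InjectiveResolution.desc a JT RI
  let E := ((epsX K Y).mapHomologicalComplex (ComplexShape.up ℕ)).obj JT.cocomplex
  have hE : ∀ k, TriCat.IsRightAcyclic Q (E.X k) := fun k => by
    haveI := JT.injective k
    haveI : Injective (E.X k) := injective_eps (JT.cocomplex.X k)
    exact TriCat.isRightAcyclic_of_injective _
  have hZ : TriCat.IsRightAcyclic Q (kernel (E.d 0 1)) := fun q hq =>
    (UAcy.isZero_RpushBig p hU q hq).of_iso ((BigSite.RpushBig et p q).mapIso
      (((KernelFork.mapIsLimit _ JT.isLimitKernelFork (epsX K Y)).conePointUniqueUpToIso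
        (kernelIsKernel (E.d 0 1))).symm))
  have hex : ∀ k, k < m → (scAt E k).Exact := fun k hk => ih k hk Y T hT JT
  -- the image downstairs is locally a coboundary
  have hT0 : Presheaf.imageSieve (Q.map (E.d m (m + 1))).hom (U := U)
      ((ψ.f (m + 1)).hom.app (op ((Over.pullback p).obj U))
        ((I.cocomplex.X (m + 1)).obj.map ((Over.mapPullbackAdj p).counit.app U).op x)) ∈ QuotSh.J et X U := by
    refine boundary_push p E hE hZ m hex U _ (GrothendieckTopology.superset_covering _ ?_ hloc)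
    rintro V k ⟨z, hz⟩
    refine ⟨(ψ.f m).hom.app (op V) z, ?_⟩
    refine Eq.trans ?_ (ConcreteCategory.congr_hom ((ψ.f (m + 1)).hom.naturality k.op) _)
    refine Eq.trans ?_ (congrArg ((ψ.f (m + 1)).hom.app (op V)) hz)
    exact ((ConcreteCategory.comp_apply _ _ z).symm.trans
      (congrArg (fun t => t.hom.app (op V) z) (ψ.comm m (m + 1)))).trans (ConcreteCategory.comp_apply _ _ z)
  let j := jT K p F T j₀
  let M := P.obj (piK K T)
  let J := injectiveResolution M
  let φ := InjectiveResolution.desc j J I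
  let Kc := (P.mapHomologicalComplex (ComplexShape.up ℕ)).obj JT.cocomplex
  let η : I.cocomplex ⟶ Kc :=
    { f := fun i => adj.unit.app (I.cocomplex.X i) ≫ P.map (ψ.f i)
      comm' := fun i k _ => by
        show (adj.unit.app _ ≫ P.map (ψ.f i)) ≫ P.map (JT.cocomplex.d i k) =
          I.cocomplex.d i k ≫ adj.unit.app _ ≫ P.map (ψ.f k)
        refine (Category.assoc _ _ _).trans ((congrArg (adj.unit.app _ ≫ ·) ((P.map_comp _ _).symm.trans
          ((congrArg P.map (ψ.comm i k)).trans (P.map_comp _ _)))).trans ((Category.assoc _ _ _).symm.trans ?_))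
        exact (congrArg (· ≫ P.map (ψ.f k)) (adj.unit.naturality (I.cocomplex.d i k)).symm).trans (Category.assoc _ _ _) }
  let ιK : M ⟶ Kc.X 0 := P.map (JT.ι.f 0)
  haveI : Mono ιK := mono_of_isLimit_fork (KernelFork.mapIsLimit _ JT.isLimitKernelFork P)
  have hιd : ιK ≫ Kc.d 0 1 = 0 :=
    (P.map_comp _ _).symm.trans ((congrArg P.map JT.ι_f_zero_comp_complex_d).trans (P.map_zero _ _))
  have h₀ : (ShortComplex.mk ιK (Kc.d 0 1) hιd).Exact :=
    ShortComplex.exact_of_f_is_kernel _ (KernelFork.mapIsLimit _ JT.isLimitKernelFork P)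
  have hK : ∀ k, k < m → (scAt Kc k).Exact := fun k hk => by
    refine exact_of_eps ?_
    refine exact_of_locally_boundary fun W s hs => ?_
    exact boundary_push p E hE hZ k (fun i hi => hex i (by omega)) W s
      (locally_boundary (S := scAt E k) (hex k hk) s hs)
  have hη : I.ι.f 0 ≫ η.f 0 = j ≫ ιK := by
    let i₀ : piK K F ⟶ I.cocomplex.X 0 := I.ι.f 0
    have h1 : R.map i₀ ≫ ψ.f 0 = a ≫ JT.ι.f 0 := by
      refine Eq.trans ?_ (InjectiveResolution.desc_commutes_zero a JT RI)
      rw [SiteBase.mapResolution_ι_f_zero, HomologicalComplex.singleMapHomologicalComplex_inv_app_self]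
      simp [i₀, R]
      rfl
    show i₀ ≫ adj.unit.app (I.cocomplex.X 0) ≫ P.map (ψ.f 0) =
      (adj.unit.app (piK K F) ≫ P.map a) ≫ P.map (JT.ι.f 0)
    refine (Category.assoc _ _ _).symm.trans ((congrArg (· ≫ P.map (ψ.f 0)) (adj.unit.naturality i₀)).trans ?_)
    refine (Category.assoc _ _ _).trans ((congrArg (_ ≫ ·) ((P.map_comp _ _).symm.trans ((congrArg P.map h1).trans
      (P.map_comp _ _)))).trans (Category.assoc _ _ _).symm)
  haveI := mono_rightDerived_jT (K := K) p F T j₀ hT m fun k hk => ih k hk X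
  let ε := epsX K X
  haveI hmono : Mono ((ε.mapHomologicalComplex (ComplexShape.up ℕ) ⋙ HomologicalComplex.homologyFunctor _ _ (m + 1)).map φ) := by
    have h := InjectiveResolution.isoRightDerivedObj_hom_naturality j I J φ (InjectiveResolution.desc_commutes_zero _ _ _) ε (m + 1)
    have h' : (ε.mapHomologicalComplex (ComplexShape.up ℕ) ⋙ HomologicalComplex.homologyFunctor _ _ (m + 1)).map φ =
        (I.isoRightDerivedObj ε (m + 1)).inv ≫ (ε.rightDerived (m + 1)).map j ≫ (J.isoRightDerivedObj ε (m + 1)).hom := by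
      rw [h, Iso.inv_hom_id_assoc]
    rw [h']; infer_instance
  refine GrothendieckTopology.transitive _ hT0 _ ?_
  rintro U' c ⟨y, hy⟩
  let x' : (I.cocomplex.X (m + 1)).obj.obj (op U') := (I.cocomplex.X (m + 1)).obj.map c.op x
  have hx' : (I.cocomplex.d (m + 1) (m + 2)).hom.app (op U') x' = 0 :=
    (ConcreteCategory.congr_hom ((I.cocomplex.d (m + 1) (m + 2)).hom.naturality c.op) x).trans
      ((congrArg _ hx).trans (map_zero ((I.cocomplex.X (m + 2)).obj.map c.op).hom))
  have hy' : (Kc.d m (m + 1)).hom.app (op U') y = (η.f (m + 1)).hom.app (op U') x' := by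
    refine hy.trans ?_
    exact (ConcreteCategory.congr_hom ((η.f (m + 1)).hom.naturality c.op) x).symm
  refine GrothendieckTopology.superset_covering _ (S := Presheaf.imageSieve (I.cocomplex.d m (m + 1)).hom x') ?_ ?_
  · rintro V k ⟨z, hz⟩
    exact ⟨z, hz.trans (ConcreteCategory.congr_hom ((I.cocomplex.X (m + 1)).obj.map_comp c.op k.op) x).symm⟩
  let g₁ : I.cocomplex.X (m + 1) ⊞ Kc.X m ⟶ I.cocomplex.X (m + 2) := biprod.fst ≫ I.cocomplex.d (m + 1) (m + 2)
  let g₂ : kernel g₁ ⟶ Kc.X (m + 1) := kernel.ι g₁ ≫ (biprod.fst ≫ η.f (m + 1) - biprod.snd ≫ Kc.d m (m + 1))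
  let sA : kernel g₂ ⟶ I.cocomplex.X (m + 1) := kernel.ι g₂ ≫ kernel.ι g₁ ≫ biprod.fst
  let tA : kernel g₂ ⟶ Kc.X m := kernel.ι g₂ ≫ kernel.ι g₁ ≫ biprod.snd
  have hs : sA ≫ I.cocomplex.d (m + 1) (m + 2) = 0 := by
    simp only [sA, Category.assoc]
    rw [show kernel.ι g₁ ≫ biprod.fst ≫ I.cocomplex.d (m + 1) (m + 2) = 0 from kernel.condition g₁, comp_zero]
  have ht : sA ≫ η.f (m + 1) = tA ≫ Kc.d m (m + 1) := by
    have h := kernel.condition g₂
    simp only [g₂, Preadditive.comp_sub, sub_eq_zero] at h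
    simpa only [sA, tA, Category.assoc] using h
  obtain ⟨r, hr⟩ := exists_coboundary I J j φ (InjectiveResolution.desc_commutes_zero _ _ _) Kc ιK η
    hη hιd h₀ m hK sA hs tA ht
  let εI := (ε.mapHomologicalComplex (ComplexShape.up ℕ)).obj I.cocomplex
  let εJ := (ε.mapHomologicalComplex (ComplexShape.up ℕ)).obj J.cocomplex
  let εφ : εI ⟶ εJ := (ε.mapHomologicalComplex (ComplexShape.up ℕ)).map φ
  have hs' : ε.map sA ≫ εI.d (m + 1) (m + 2) = 0 :=
    (ε.map_comp _ _).symm.trans ((congrArg ε.map hs).trans (ε.map_zero _ _))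
  have hzero : εI.liftCycles (ε.map sA) (m + 2) (by simp) hs' ≫ εI.homologyπ (m + 1) = 0 := by
    haveI : Mono (HomologicalComplex.homologyMap εφ (m + 1)) := hmono
    refine (cancel_mono (HomologicalComplex.homologyMap εφ (m + 1))).1 ?_
    rw [zero_comp, Category.assoc, HomologicalComplex.homologyπ_naturality, ← Category.assoc,
      HomologicalComplex.liftCycles_comp_cyclesMap]
    refine (εJ.liftCycles_comp_homologyπ_eq_zero_iff_up_to_refinements m (m + 1) (m + 2) (by simp) (by simp) _ _).2
      ⟨_, 𝟙 _, inferInstance, ε.map r, ?_⟩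
    rw [Category.id_comp]
    exact ((ε.map_comp _ _).symm.trans (congrArg ε.map hr)).trans (ε.map_comp _ _)
  obtain ⟨A', π, hπ, w, hw⟩ :=
    (εI.liftCycles_comp_homologyπ_eq_zero_iff_up_to_refinements m (m + 1) (m + 2) (by simp) (by simp) _ hs').1 hzero
  let b : (I.cocomplex.X (m + 1) ⊞ Kc.X m).obj.obj (op U') :=
    (biprod.inl : _ ⟶ I.cocomplex.X (m + 1) ⊞ Kc.X m).hom.app (op U') x' + (biprod.inr : _ ⟶ I.cocomplex.X (m + 1) ⊞ Kc.X m).hom.app (op U') y
  have happ : ∀ {A B D : BigSite.Ab K X} (f : A ⟶ B) (g : B ⟶ D) (a : A.obj.obj (op U')),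
      g.hom.app (op U') (f.hom.app (op U') a) = (f ≫ g).hom.app (op U') a := fun f g a =>
    (ConcreteCategory.comp_apply _ _ a).symm
  have hb₁ : (biprod.fst : I.cocomplex.X (m + 1) ⊞ Kc.X m ⟶ _).hom.app (op U') b = x' := by
    simp only [b, map_add, happ, biprod.inl_fst, biprod.inr_fst]
    exact add_zero x'
  have hb₂ : (biprod.snd : I.cocomplex.X (m + 1) ⊞ Kc.X m ⟶ _).hom.app (op U') b = y := by
    simp only [b, map_add, happ, biprod.inl_snd, biprod.inr_snd]
    exact zero_add y
  obtain ⟨c₁, hc₁⟩ := exists_kernel_section g₁ b ((happ _ _ b).symm.trans ((congrArg _ hb₁).trans hx'))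
  obtain ⟨a₂, ha₂⟩ := exists_kernel_section g₂ c₁ (by
    refine (happ _ _ c₁).symm.trans ((congrArg _ hc₁).trans ?_)
    show (biprod.fst ≫ η.f (m + 1)).hom.app (op U') b - (biprod.snd ≫ Kc.d m (m + 1)).hom.app (op U') b = 0
    refine sub_eq_zero.2 (((happ _ _ b).symm.trans (congrArg _ hb₁)).trans (hy'.symm.trans ?_))
    exact (congrArg _ hb₂.symm).trans (happ _ _ b))
  have hsa : sA.hom.app (op U') a₂ = x' := by
    simp only [sA, ← happ]
    rw [ha₂, hc₁, hb₁]
  haveI := (Sheaf.isLocallySurjective_iff_epi' AddCommGrpCat.{u + 1} π).2 hπ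
  refine GrothendieckTopology.superset_covering _ ?_ (Presheaf.imageSieve_mem (QuotSh.J et X) π.hom a₂)
  rintro V k ⟨a', ha'⟩
  refine ⟨w.hom.app (op V) a', ?_⟩
  have h1 : (εI.d m (m + 1)).hom.app (op V) (w.hom.app (op V) a') = (ε.map sA).hom.app (op V) (π.hom.app (op V) a') :=
    ((ConcreteCategory.comp_apply _ _ a').symm.trans (congrArg (fun t => t.hom.app (op V) a') hw.symm)).trans
      (ConcreteCategory.comp_apply _ _ a')
  refine h1.trans ((congrArg _ ha').trans ?_)
  exact (ConcreteCategory.congr_hom (sA.hom.naturality k.op) a₂).trans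
    (congrArg ((I.cocomplex.X (m + 1)).obj.map k.op) hsa)

/-- The resolution of a restricted pulled back sheaf. -/
def pullRes (p : Y ⟶ X) {F : EtCoh.Ab X} (I : InjectiveResolution (piK K F)) :
    InjectiveResolution (piK K ((EtCoh.pull p).obj F)) :=
  transportRes (piKPullIso K p F) (SiteBase.mapResolution (BigSite.pullBig K p AddCommGrpCat.{u + 1}) I)

theorem acy (hK : Refines K) (m : ℕ) :
    ∀ (X : Scheme.{u}) (F : EtCoh.Ab X), EtCoh.IsTorsion F → Acy K m X F := by
  induction m using Nat.strong_induction_on with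
  | _ m ih =>
  intro X F hF I
  refine exact_of_locally_boundary fun T x hx => ?_
  have hfl := locally_boundary (scAt_of_exactAt I.cocomplex m (RDer.res_exactAt_succ I.cocomplex I.ι m)) x hx
  have hsieve := (GrothendieckTopology.mem_over_iff _ _).1 hfl
  choose U U' g p hg hu hp hps hW using fun t : T.left => hK _ hsieve t
  let a := fun t => g t ≫ T.hom
  let o := fun t => (Over.map (a t)).obj (Over.mk (𝟙 (U t)))
  let k : ∀ t, o t ⟶ T := fun t => Over.homMk (g t) (Category.id_comp _).symm
  refine GrothendieckTopology.transitive _ (EtInd.ofArrows_mem_et o k hg fun t => ⟨t, hu t⟩) _ ?_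
  rintro Z f ⟨_, c, _, ⟨t⟩, rfl⟩
  rw [Sieve.pullback_comp]
  refine GrothendieckTopology.pullback_stable _ c ?_
  haveI := hp t
  haveI := hps t
  let x' : (I.cocomplex.X (m + 1)).obj.obj (op (o t)) := (I.cocomplex.X (m + 1)).obj.map (k t).op x
  have hnat : ∀ {q q' : ℕ} {V V' : Over X} (f : V ⟶ V') (z : (I.cocomplex.X q).obj.obj (op V')),
      (I.cocomplex.d q q').hom.app (op V) ((I.cocomplex.X q).obj.map f.op z) =
        (I.cocomplex.X q').obj.map f.op ((I.cocomplex.d q q').hom.app (op V') z) := fun f z =>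
    ConcreteCategory.congr_hom ((I.cocomplex.d _ _).hom.naturality f.op) z
  let V₀ := (Over.pullback (p t)).obj (Over.mk (𝟙 (U t)))
  let cc := (Over.mapPullbackAdj (p t)).counit.app (Over.mk (𝟙 (U t)))
  let σ : V₀.left ⟶ U' t := V₀.hom
  choose W hzW hRW using fun z : V₀.left => hW t (σ z)
  let O := fun z => (σ ⁻¹ᵁ (W z))
  let o' := fun z => Over.mk ((O z).ι ≫ σ)
  let k' : ∀ z, o' z ⟶ V₀ := fun z => Over.homMk (O z).ι
  have hloc : Presheaf.imageSieve ((BigSite.pullBig K (p t) AddCommGrpCat.{u + 1}).map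
      ((pullRes (a t) I).cocomplex.d m (m + 1))).hom (U := V₀)
      (((pullRes (a t) I).cocomplex.X (m + 1)).obj.map cc.op x') ∈ QuotSh.J et (U' t) V₀ := by
    refine GrothendieckTopology.superset_covering _ ?_
      (EtInd.ofArrows_mem_et o' k' (fun z => (inferInstance : Etale (O z).ι)) fun z => ⟨z, ⟨z, hzW z⟩, rfl⟩)
    rintro Z' f' ⟨_, c', _, ⟨z⟩, rfl⟩
    refine Sieve.downward_closed _ ?_ _
    have h0 := (Sieve.overEquiv_iff _ _).1 (hRW z)
    let W₁ := (Over.map (a t)).obj ((Over.map (p t)).obj (o' z))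
    let m₁ : W₁ ⟶ T := (Over.map (a t)).map ((Over.map (p t)).map (k' z) ≫ cc) ≫ k t
    have hm : Presheaf.imageSieve (I.cocomplex.d m (m + 1)).hom x m₁ := by
      have e : m₁ = Over.homMk (σ.resLE (W z) (O z) le_rfl) (by
          show σ.resLE (W z) (O z) le_rfl ≫ ((W z).ι ≫ p t ≫ g t) ≫ T.hom = W₁.hom
          simp only [← Category.assoc, Scheme.Hom.resLE_comp_ι]
          simp only [Category.assoc]
          rfl) ≫ (Over.homMk ((W z).ι ≫ p t ≫ g t) : Over.mk (((W z).ι ≫ p t ≫ g t) ≫ T.hom) ⟶ T) := by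
        refine Over.OverMorphism.ext ?_
        show ((O z).ι ≫ pullback.fst (𝟙 (U t)) (p t)) ≫ g t = σ.resLE (W z) (O z) le_rfl ≫ (W z).ι ≫ p t ≫ g t
        rw [← Category.assoc, Scheme.Hom.resLE_comp_ι]
        simp only [Category.assoc]
        refine congrArg ((O z).ι ≫ ·) ?_
        show _ = pullback.snd (𝟙 (U t)) (p t) ≫ p t ≫ g t
        rw [← Category.assoc (pullback.snd _ _), ← pullback.condition, Category.comp_id]
      rw [e]
      exact Sieve.downward_closed _ h0 _
    obtain ⟨y, hy⟩ := hm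
    refine ⟨y, hy.trans ?_⟩
    show (I.cocomplex.X (m + 1)).obj.map ((Over.map (a t)).map ((Over.map (p t)).map (k' z) ≫ cc) ≫ k t).op x = _
    rw [op_comp, Functor.map_comp, Functor.map_comp (Over.map (a t)), op_comp, Functor.map_comp]
    rfl
  have hres := boundary_of_proper m ih (p t) (H9Transfer.isTorsion_pull (a t) F hF) (pullRes (a t) I)
    (Over.mk (𝟙 (U t))) x' ((hnat (k t) x).trans ((congrArg _ hx).trans (map_zero _))) hloc
  rw [GrothendieckTopology.mem_over_iff] at hres ⊢
  refine GrothendieckTopology.superset_covering _ ?_ hres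
  intro Z' f' hf'
  obtain ⟨z, hz⟩ := (Sieve.overEquiv_iff (Y := Over.mk (𝟙 (U t))) _ f').1 hf'
  refine (Sieve.overEquiv_iff _ f').2 ?_
  let e : Over.mk (f' ≫ (o t).hom) ⟶ (Over.map (a t)).obj (Over.mk (f' ≫ 𝟙 (U t))) :=
    Over.homMk (𝟙 _) ((Category.id_comp _).trans (Category.assoc _ _ _))
  have hf : (Over.homMk f' : Over.mk (f' ≫ (o t).hom) ⟶ o t) =
      e ≫ (Over.map (a t)).map (Over.homMk f' : Over.mk (f' ≫ 𝟙 (U t)) ⟶ Over.mk (𝟙 (U t))) :=
    Over.OverMorphism.ext (Category.id_comp _).symm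
  rw [hf]
  refine Sieve.downward_closed _ ?_ _
  show Presheaf.imageSieve (I.cocomplex.d m (m + 1)).hom x
    ((Over.map (a t)).map (Over.homMk f' : Over.mk (f' ≫ 𝟙 (U t)) ⟶ Over.mk (𝟙 (U t))) ≫ k t)
  exact ⟨z, hz.trans (EtInd.mapP (P := (I.cocomplex.X (m + 1)).obj ⋙ forget _) _ (k t) x)⟩

end Groth.Agent.BigPBC
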