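import Groth.Agent.PBCThm.DerBC
import Groth.Agent.PBCThm.Top
import Groth.Agent.H0PBC.BigSite
import Groth.Agent.EtLC12.RpushTorsion

/-!
# Proper base change on the big etale site
-/

set_option autoImplicit false
set_option linter.style.haveILetI false
set_option linter.unusedSectionVars false
set_option backward.isDefEq.respectTransparency false
set_option backward.isDefEq.respectTransparency.types false

universe u

open CategoryTheory CategoryTheory.Limits AlgebraicGeometry Opposite

attribute [-instance] CategoryTheory.catToReflQuiver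

noncomputable section

namespace Groth.Agent.BigPBC

open BigSiteLib PBCThm

attribute [local instance] EtFound.pull_preservesFiniteLimits

local notation "et" => Scheme.etalePrecoverage

theorem isTorsion_of_epi {X : Scheme.{u}} {A B : EtCoh.Ab X} (m : A ⟶ B) [Epi m] (hA : EtCoh.IsTorsion A) :
    EtCoh.IsTorsion B := by
  rw [H9Transfer.isTorsion_iff_stalks] at hA ⊢
  intro Ω _ _ ξ t
  obtain ⟨s, rfl⟩ := (AddCommGrpCat.epi_iff_surjective ((EtCoh.stalk ξ).map m)).1 inferInstance t
  exact AddMonoidHom.isOfFinAddOrder ((EtCoh.stalk ξ).map m).hom (hA Ω ξ s)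

/-- Universally acyclic torsion sheaves along a morphism. -/
def UAcy {X Y : Scheme.{u}} (f : X ⟶ Y) (T : EtCoh.Ab X) : Prop :=
  ∀ ⦃X' Y' : Scheme.{u}⦄ (g' : X' ⟶ X) (g : Y' ⟶ Y) (f' : X' ⟶ Y'), IsPullback g' f' f g →
    TriCat.IsRightAcyclic (EtCoh.push f') ((EtCoh.pull g').obj T)

variable {X Y : Scheme.{u}} (f : X ⟶ Y) [IsProper f]

theorem exists_embedding (F : EtCoh.Ab X) (hF : EtCoh.IsTorsion F) :
    ∃ (T : EtCoh.Ab X) (j : F ⟶ T), Mono j ∧ EtCoh.IsTorsion T ∧ EtCoh.IsTorsion (cokernel j) ∧ UAcy f T := by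
  have hT : EtCoh.IsTorsion (Tor.obj (Injective.under F)) := by
    rw [H9Transfer.isTorsion_iff_stalks]
    exact fun Ω _ _ ξ t => isOfFinAddOrder_stalk_torι ξ _ t
  haveI : IsIso ((torι (X := X)).app F) := EtLC12.TorsionColim.isIso_desc F hF
  let j : F ⟶ Tor.obj (Injective.under F) := inv ((torι (X := X)).app F) ≫ Tor.map (Injective.ι F)
  haveI : Mono j := by
    have h : j ≫ (torι (X := X)).app (Injective.under F) = Injective.ι F := by
      rw [Category.assoc, (torι (X := X)).naturality, IsIso.inv_hom_id_assoc]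
      rfl
    exact mono_of_mono_fac h
  refine ⟨_, j, inferInstance, hT, isTorsion_of_epi (cokernel.π j) hT, ?_⟩
  intro X' Y' g' g f' c
  exact isRightAcyclic_Tor_pull c _

theorem UAcy.isZero_Rpush {T : EtCoh.Ab X} (hT : UAcy f T) (q : ℕ) (hq : 0 < q) :
    IsZero ((EtCoh.Rpush f q).obj T) := by
  haveI : (EtCoh.push f).Additive := (EtCoh.pullPushAdj f).right_adjoint_additive
  exact (hT (𝟙 X) (𝟙 Y) f IsPullback.of_id_fst q hq).of_iso
    ((EtCoh.Rpush f q).mapIso ((EtDescSplit.pullId X).app T).symm)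

theorem UAcy.isZero_RpushBig {T : EtCoh.Ab X} (hT : UAcy f T) (q : ℕ) (hq : 0 < q) :
    IsZero ((BigSite.RpushBig et f q).obj ((BigSite.piEtPull et X).obj T)) :=
  isZero_of_resEtAlong _ fun {Y'} g => by
    have hsq := IsPullback.of_hasPullback f g
    exact (hT (pullback.fst f g) g (pullback.snd f g) hsq q hq).of_iso ((resAlongRpushIso f hsq q).app _ ≪≫
      (EtCoh.Rpush (pullback.snd f g) q).mapIso (resAlongPiPullIso (pullback.fst f g) T).symm)

theorem theta_naturality {F G : EtCoh.Ab X} (φ : F ⟶ G) :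
    (BigSite.piEtPull et Y).map ((EtCoh.push f).map φ) ≫ theta f G =
      theta f F ≫ (BigSite.pushBig et f AddCommGrpCat.{u + 1}).map ((BigSite.piEtPull et X).map φ) := by
  refine (((BigSite.piEtAdj et Y).homEquiv_naturality_left_symm ((EtCoh.push f).map φ) (pushToRes f G)).symm.trans
    ?_).trans ((BigSite.piEtAdj et Y).homEquiv_naturality_right_symm (pushToRes f F) _)
  refine congrArg _ ?_
  simp only [pushToRes, Category.assoc, ← (BigSite.piEtAdj et X).unit.naturality, ← Functor.map_comp_assoc]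
  have h := (BigSite.piEtAdj et X).unit.naturality φ
  simp only [Functor.id_map, Functor.comp_map] at h
  rw [h, Functor.map_comp, Category.assoc]
  exact congrArg (_ ≫ ·) ((pushResIso f).inv.naturality ((BigSite.piEtPull et X).map φ))

/-- Cokernels of isomorphic maps. -/
theorem nonempty_iso_of_exact_epi {C : Type*} [Category C] [Abelian C] {A B D A' B' D' : C}
    {a : A ⟶ B} {b : B ⟶ D} {a' : A' ⟶ B'} {b' : B' ⟶ D'} (w : a ≫ b = 0) (w' : a' ≫ b' = 0)
    (h : (ShortComplex.mk a b w).Exact) (h' : (ShortComplex.mk a' b' w').Exact) [Epi b] [Epi b']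
    (eA : A ≅ A') (eB : B ≅ B') (comm : a ≫ eB.hom = eA.hom ≫ a') : Nonempty (D ≅ D') :=
  ⟨(CokernelCofork.mapIsoOfIsColimit (f := a) (f' := a') h.gIsCokernel h'.gIsCokernel
    (Arrow.isoMk eA eB comm.symm))⟩

theorem piPull_Rpush_iso_proper (q : ℕ) : ∀ (F : EtCoh.Ab X), EtCoh.IsTorsion F →
    Nonempty ((BigSite.piEtPull et Y).obj ((EtCoh.Rpush f q).obj F) ≅
      (BigSite.RpushBig et f q).obj ((BigSite.piEtPull et X).obj F)) := by
  haveI : (EtCoh.push f).IsRightAdjoint := (EtCoh.pullPushAdj f).isRightAdjoint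
  haveI : (EtCoh.push f).Additive := (EtCoh.pullPushAdj f).right_adjoint_additive
  haveI : (BigSite.pushBig et f AddCommGrpCat.{u + 1}).IsRightAdjoint :=
    (BigSite.bigAdj et f AddCommGrpCat.{u + 1}).isRightAdjoint
  haveI := piEtPull_exact X et
  haveI := piEtPull_exact Y et
  haveI : (BigSite.piEtPull et X).IsLeftAdjoint := (BigSite.piEtAdj et X).isLeftAdjoint
  haveI : (BigSite.piEtPull et Y).IsLeftAdjoint := (BigSite.piEtAdj et Y).isLeftAdjoint
  haveI : (BigSite.piEtPull et X).Additive := (BigSite.piEtAdj et X).left_adjoint_additive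
  haveI : (BigSite.piEtPull et Y).Additive := (BigSite.piEtAdj et Y).left_adjoint_additive
  let P := EtCoh.push f
  let Q := BigSite.pushBig et f AddCommGrpCat.{u + 1}
  let L := BigSite.piEtPull et X
  let M := BigSite.piEtPull et Y
  let e₀ : ∀ G : EtCoh.Ab X, M.obj ((P.rightDerived 0).obj G) ≅ (Q.rightDerived 0).obj (L.obj G) := fun G =>
    haveI := H0PBC.isIso_theta_proper f G
    M.mapIso (P.rightDerivedZeroIsoSelf.app G) ≪≫ asIso (theta f G) ≪≫ (Q.rightDerivedZeroIsoSelf.app _).symm
  induction q with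
  | zero => exact fun F _ => ⟨e₀ F⟩
  | succ q ih =>
    intro F hF
    obtain ⟨T, j, _, hT, hC, hU⟩ := exists_embedding f F hF
    let S := ShortComplex.mk j (cokernel.π j) (cokernel.condition j)
    have hS : S.ShortExact :=
      ShortComplex.ShortExact.mk' (ShortComplex.exact_of_g_is_cokernel _ (cokernelIsCokernel j)) inferInstance inferInstance
    have hS' : (S.map L).ShortExact := hS.map_of_exact L
    letI := HasDerivedCategory.standard (EtCoh.Ab X)
    letI := HasDerivedCategory.standard (EtCoh.Ab Y)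
    letI := HasDerivedCategory.standard (BigSite.Ab et X)
    letI := HasDerivedCategory.standard (BigSite.Ab et Y)
    obtain ⟨δ, w₁, w₂, w₃, -, h₂, h₃⟩ := TriCat.exists_rightDerived_ses P hS q
    obtain ⟨δ', w₁', w₂', w₃', -, h₂', h₃'⟩ := TriCat.exists_rightDerived_ses Q hS' q
    haveI : Epi δ := h₃.epi_f ((UAcy.isZero_Rpush f hU (q + 1) q.succ_pos).eq_of_tgt _ _)
    haveI : Epi δ' := h₃'.epi_f ((UAcy.isZero_RpushBig f hU (q + 1) q.succ_pos).eq_of_tgt _ _)
    have hM := h₂.map M
    rcases Nat.eq_zero_or_pos q with rfl | hq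
    · refine nonempty_iso_of_exact_epi (by rw [← M.map_comp, w₂, M.map_zero]) w₂' hM h₂' (e₀ T) (e₀ (cokernel j)) ?_
      have ht := theta_naturality f (cokernel.π j)
      have h1 : (P.rightDerived 0).map (cokernel.π j) ≫ P.rightDerivedZeroIsoSelf.hom.app _ =
          P.rightDerivedZeroIsoSelf.hom.app _ ≫ P.map (cokernel.π j) := P.rightDerivedZeroIsoSelf.hom.naturality _
      have h2 : Q.map (L.map (cokernel.π j)) ≫ Q.rightDerivedZeroIsoSelf.inv.app _ =
          Q.rightDerivedZeroIsoSelf.inv.app _ ≫ (Q.rightDerived 0).map (L.map (cokernel.π j)) :=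
        Q.rightDerivedZeroIsoSelf.inv.naturality _
      simp only [e₀, Iso.trans_hom, Functor.mapIso_hom, Iso.app_hom, asIso_hom, Iso.symm_hom, Iso.app_inv,
        Category.assoc]
      show M.map ((P.rightDerived 0).map (cokernel.π j)) ≫ _ = _
      rw [← Functor.map_comp_assoc, h1, Functor.map_comp, Category.assoc]
      refine congrArg (_ ≫ ·) ?_
      rw [← Category.assoc]
      refine (congrArg (· ≫ _) ht).trans ?_
      rw [Category.assoc]
      exact congrArg (_ ≫ ·) h2
    · obtain ⟨eC⟩ := ih (cokernel j) hC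
      have z := M.map_isZero (UAcy.isZero_Rpush f hU q hq)
      have z' : IsZero ((Q.rightDerived q).obj (L.obj T)) := UAcy.isZero_RpushBig f hU q hq
      exact nonempty_iso_of_exact_epi (by rw [← M.map_comp, w₂, M.map_zero]) w₂' hM h₂' (z.iso z') eC
        (z.eq_of_src _ _)

end Groth.Agent.BigPBC
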