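import Groth.Agent.BigPBC.Gen
import Groth.Agent.BigSiteLib.FppfDesc.Main
import Groth.Agent.BigSiteLib.APull

/-!
# Proper base change on the big fppf site
-/

set_option autoImplicit false
set_option backward.isDefEq.respectTransparency.types false

universe u

open CategoryTheory CategoryTheory.Limits AlgebraicGeometry Opposite

namespace Groth.Agent.BigPBC

open BigSiteLib

instance piTop_fppf : PiTop Scheme.fppfPrecoverage.{u} where
  le := BigSite.etalePrecoverage_le_fppfPrecoverage
  isSheaf F := isSheaf_fppf_piPull F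

theorem aPull_Rpush_iso_proper {X Y : Scheme.{u}} (f : X ⟶ Y) [IsProper f] [EtFppf.ACont X] [EtFppf.ACont Y]
    (F : EtCoh.Ab X) (hF : EtCoh.IsTorsion F) (i : ℕ) :
    Nonempty ((EtFppf.aPull Y).obj ((EtCoh.Rpush f i).obj F) ≅
      (EtFppf.RpushBig f i).obj ((EtFppf.aPull X).obj F)) := by
  have h : TriCat.IsRightAcyclic (epsX Scheme.fppfPrecoverage X) (piK Scheme.fppfPrecoverage F) := fun k hk => by
    obtain ⟨m, rfl⟩ := Nat.exists_eq_succ_of_ne_zero hk.ne'
    exact FppfDesc.isZero_rightDerived_piFppf (FppfDesc.acy m X F)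
  obtain ⟨e⟩ := Rpush_piK_iso f i _ F h (piPull_Rpush_iso_proper f i F hF)
  exact ⟨aPullIso _ ≪≫ e ≪≫ (EtFppf.RpushBig f i).mapIso (aPullIso F).symm⟩

end Groth.Agent.BigPBC
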