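import Groth.Agent.BigPBC.Et
import Groth.Agent.BigSiteLib.PiInduced
import Groth.Agent.TopDescent.AcyclicComp
import Groth.Agent.SiteBase.DerivedComp

/-!
# Pullbacks from small etale sites on a finer big site
-/

set_option autoImplicit false
set_option linter.style.haveILetI false
set_option linter.unusedSectionVars false
set_option backward.isDefEq.respectTransparency.types false

universe u

open CategoryTheory CategoryTheory.Limits AlgebraicGeometry Opposite

attribute [-instance] CategoryTheory.catToReflQuiver

noncomputable section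

namespace Groth.Agent.BigPBC

open BigSiteLib
open BigSiteLib.FppfDesc (InPi inPi_pi locally_boundary exact_of_locally_boundary)

local notation "et" => Scheme.etalePrecoverage

/-- A precoverage finer than the etale one for which pullbacks from small etale sites are sheaves. -/
class PiTop (K : Precoverage Scheme.{u}) : Prop where
  le : et ≤ K
  isSheaf : ∀ {S : Scheme.{u}} (F : EtCoh.Ab S),
    Presheaf.IsSheaf (QuotSh.J K S) ((BigSite.piEtPull et S).obj F).obj

variable {K : Precoverage Scheme.{u}} [PiTop K]

instance epsCont (X : Scheme.{u}) : BigSite.EpsCont et K X := BigSite.epsCont_of_le PiTop.le X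

variable (K) in
/-- A sheaf as an etale sheaf. -/
abbrev epsX (X : Scheme.{u}) : BigSite.Ab K X ⥤ BigSite.Ab et X :=
  BigSite.eps et K X AddCommGrpCat.{u + 1}

variable {X Y : Scheme.{u}}

instance eps_faithful : (epsX K X).Faithful :=
  ⟨fun {F G a b} h => ObjectProperty.hom_ext _ (NatTrans.ext (funext fun V => congr(($h).hom.app V)))⟩

instance eps_full : (epsX K X).Full :=
  ⟨fun {F G} a => ⟨ObjectProperty.homMk { app := fun V => a.hom.app V, naturality := fun _ _ k => a.hom.naturality k },
    ObjectProperty.hom_ext _ (NatTrans.ext (funext fun _ => rfl))⟩⟩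

instance eps_preservesFiniteLimits : PreservesFiniteLimits (epsX K X) := by
  haveI : (epsX K X).IsRightAdjoint := (BigSite.epsAdj et K X).isRightAdjoint
  infer_instance

instance eps_additive : (epsX K X).Additive := ⟨fun {_ _ _ _} => rfl⟩

theorem epsPull_exact : PreservesFiniteLimits (BigSite.epsPull et K X) := by
  haveI : RepresentablyFlat (𝟭 (Over X)) := inferInstance
  exact sheafPullback_preservesFiniteLimits (𝟭 (Over X)) _ _

theorem injective_eps (I : BigSite.Ab K X) [Injective I] : Injective ((epsX K X).obj I) := by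
  haveI := epsPull_exact (K := K) (X := X)
  haveI : (BigSite.epsPull et K X).PreservesMonomorphisms := inferInstance
  exact Injective.injective_of_adjoint (BigSite.epsAdj et K X) I

theorem exact_of_eps {S : ShortComplex (BigSite.Ab K X)} (h : (S.map (epsX K X)).Exact) : S.Exact :=
  exact_of_locally_boundary fun U x hx => BigSite.J_mono PiTop.le X U (locally_boundary h x hx)

variable (K) in
/-- The pullback to the big etale site, as a sheaf for the finer topology. -/
abbrev piK (F : EtCoh.Ab X) : BigSite.Ab K X :=
  ⟨((BigSite.piEtPull et X).obj F).obj, PiTop.isSheaf F⟩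

variable (K) in
/-- Its action on morphisms. -/
def piKMap {F G : EtCoh.Ab X} (φ : F ⟶ G) : piK K F ⟶ piK K G :=
  ObjectProperty.homMk ((BigSite.piEtPull et X).map φ).hom

/-- A sheaf whose etale sheaf is pulled back from the small site. -/
def isoPiK {G : BigSite.Ab K X} (F : EtCoh.Ab X)
    (e : (BigSite.piEtPull et X).obj F ≅ (epsX K X).obj G) : piK K F ≅ G :=
  (fullyFaithfulSheafToPresheaf _ _).preimageIso
    (show (piK K F).obj ≅ G.obj from (sheafToPresheaf (QuotSh.J et X) _).mapIso e)

/-- An etale sheaf pulled back from the small site is a sheaf. -/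
def ofInPi {A : BigSite.Ab et X} (h : InPi A) : BigSite.Ab K X :=
  ⟨A.obj, haveI : IsIso ((BigSite.piEtAdj et X).counit.app A) := h
    (Presheaf.isSheaf_of_iso_iff ((sheafToPresheaf _ _).mapIso (asIso ((BigSite.piEtAdj et X).counit.app A)))).1
      (PiTop.isSheaf ((BigSite.resEt et X).obj A))⟩

variable (p : Y ⟶ X) (F : EtCoh.Ab X)

variable (K) in
/-- Restriction of a pulled back sheaf. -/
def piKPullIso : piK K ((EtCoh.pull p).obj F) ≅ (BigSite.pullBig K p AddCommGrpCat.{u + 1}).obj (piK K F) :=
  (fullyFaithfulSheafToPresheaf _ _).preimageIso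
    (show (piK K ((EtCoh.pull p).obj F)).obj ≅ _ from
      (sheafToPresheaf (QuotSh.J et Y) _).mapIso ((piPullIso p).app F))

variable (K) in
/-- Big direct images commute with regarding sheaves as etale sheaves. -/
def epsPushIso : BigSite.pushBig K p AddCommGrpCat.{u + 1} ⋙ epsX K X ≅
    epsX K Y ⋙ BigSite.pushBig et p AddCommGrpCat.{u + 1} :=
  NatIso.ofComponents (fun _ => Iso.refl _) (fun _ => (Category.comp_id _).trans (Category.id_comp _).symm)

/-- Higher direct images of pullbacks, from acyclicity for `ε` and the etale case. -/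
theorem Rpush_piK_iso (q : ℕ) (G : EtCoh.Ab X) (F : EtCoh.Ab Y)
    (acy : TriCat.IsRightAcyclic (epsX K Y) (piK K F))
    (hG : Nonempty ((BigSite.piEtPull et X).obj G ≅ (BigSite.RpushBig et p q).obj ((BigSite.piEtPull et Y).obj F))) :
    Nonempty (piK K G ≅ (BigSite.RpushBig K p q).obj (piK K F)) := by
  obtain ⟨eG⟩ := hG
  let P := BigSite.pushBig K p AddCommGrpCat.{u + 1}
  let Q := BigSite.pushBig et p AddCommGrpCat.{u + 1}
  haveI : P.IsRightAdjoint := (BigSite.bigAdj K p AddCommGrpCat.{u + 1}).isRightAdjoint
  haveI : Q.IsRightAdjoint := (BigSite.bigAdj et p AddCommGrpCat.{u + 1}).isRightAdjoint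
  haveI := epsPull_exact (K := K) (X := X)
  let a := BigSite.epsPull et K X
  haveI : a.IsLeftAdjoint := (BigSite.epsAdj et K X).isLeftAdjoint
  haveI : a.Additive := (BigSite.epsAdj et K X).left_adjoint_additive
  haveI : PreservesFiniteLimits (P ⋙ epsX K X) := comp_preservesFiniteLimits _ _
  haveI : IsIso (BigSite.epsAdj et K X).counit := inferInstance
  let ec : P ≅ (P ⋙ epsX K X) ⋙ a :=
    (Functor.rightUnitor P).symm ≪≫ Functor.isoWhiskerLeft P (asIso (BigSite.epsAdj et K X).counit).symm ≪≫
      (Functor.associator _ _ _).symm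
  obtain ⟨e₁⟩ := TopDescent.nonempty_rightDerived_comp_of_acyclic (epsX K Y) Q
    (fun I hI => haveI := @injective_eps K _ Y I hI; TriCat.isRightAcyclic_of_injective (F := Q) _) q (piK K F) acy
  exact ⟨(asIso ((BigSite.epsAdj et K X).counit.app (piK K G))).symm ≪≫
    a.mapIso (eG ≪≫ e₁.symm ≪≫ ((rightDerivedIso (epsPushIso K p) q).symm.app (piK K F))) ≪≫
    ((SiteBase.rightDerivedCompIso (P ⋙ epsX K X) a q).symm.app (piK K F)) ≪≫
    ((rightDerivedIso ec q).symm.app (piK K F))⟩

end Groth.Agent.BigPBC
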