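import Groth.Agent.BigPBC.Cmp
import Groth.Agent.BigSiteLib.VPull
import Groth.Agent.HTopPh.Compose
import Groth.Agent.S7190
import Groth.Agent.S8976

/-!
# The ph and h topologies
-/

set_option autoImplicit false
set_option linter.style.haveILetI false
set_option backward.isDefEq.respectTransparency.types false

universe u

open CategoryTheory CategoryTheory.Limits AlgebraicGeometry Opposite HTop

namespace Groth.Agent.BigPBC

open BigSiteLib

theorem h_le_ph : hPrecoverage.{u} ≤ phPrecoverage := fun X R hR => by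
  obtain ⟨E, hE, rfl⟩ := PreZeroHypercoverFamily.mem_precoverage_iff.mp hR
  rw [presieve₀_mem_phPrecoverage_iff]
  exact (S8976.result E hE.1).2 hE.2

theorem et_le_ph : Scheme.etalePrecoverage.{u} ≤ phPrecoverage := fun X R hR => by
  obtain ⟨E, rfl⟩ := (Precoverage.mem_iff_exists_zeroHypercover (J := Scheme.etalePrecoverage)).1 hR
  have hm := (Scheme.presieve₀_mem_precoverage_iff E.toPreZeroHypercover).1 E.mem₀
  rw [presieve₀_mem_phPrecoverage_iff]
  haveI : ∀ i, Etale (E.f i) := hm.2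
  exact S7190.result E.toPreZeroHypercover (fun i => inferInstance) (fun i => inferInstance)
    fun t => by obtain ⟨i, x, hx⟩ := hm.1 t; exact ⟨i, x, hx⟩

theorem et_le_h : Scheme.etalePrecoverage.{u} ≤ hPrecoverage := fun X R hR => by
  obtain ⟨E, rfl⟩ := (Precoverage.mem_iff_exists_zeroHypercover (J := Scheme.etalePrecoverage)).1 hR
  have hm := (Scheme.presieve₀_mem_precoverage_iff E.toPreZeroHypercover).1 E.mem₀
  rw [presieve₀_mem_hPrecoverage_iff]
  haveI : ∀ i, Etale (E.f i) := hm.2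
  exact ⟨fun i => inferInstance, VPull.isVCover_of_isPhCover (S7190.result E.toPreZeroHypercover
    (fun i => inferInstance) (fun i => inferInstance)
    fun t => by obtain ⟨i, x, hx⟩ := hm.1 t; exact ⟨i, x, hx⟩)⟩

instance piTop_ph : PiTop phPrecoverage.{u} where
  le := et_le_ph
  isSheaf F := (Presheaf.isSheaf_iff_isSheaf_forget _ _ (forget AddCommGrpCat.{u + 1})).2
    ((isSheaf_iff_isSheaf_of_type _ _).2 (VPull.isSheaf_jph (etInduced_piP F)))

instance piTop_h : PiTop hPrecoverage.{u} where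
  le := et_le_h
  isSheaf F := (Presheaf.isSheaf_iff_isSheaf_forget _ _ (forget AddCommGrpCat.{u + 1})).2
    ((isSheaf_iff_isSheaf_of_type _ _).2 (VPull.isSheaf_jh (etInduced_piP F)))

theorem exists_phCover_le {T : Scheme.{u}} {R : Sieve T} (hR : R ∈ phTopology T) :
    ∃ E : PreZeroHypercover.{u + 1} T, IsPhCover E ∧ ∀ i, R (E.f i) := by
  induction hR with
  | of X R hR =>
    obtain ⟨E, hE, rfl⟩ := PreZeroHypercoverFamily.mem_precoverage_iff.mp hR
    exact ⟨E, hE, fun i => Sieve.le_generate _ _ _ ⟨i⟩⟩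
  | top X =>
    exact ⟨⟨PUnit, fun _ => X, fun _ => 𝟙 X⟩, S7190.result _ (fun _ => inferInstance) (fun _ => inferInstance)
      (fun t => ⟨PUnit.unit, t, rfl⟩), fun _ => trivial⟩
  | pullback X S _ Y f ih =>
    obtain ⟨E, hE, h⟩ := ih
    refine ⟨E.pullback₁ f, HTopPh.isPhCover_pullback₁ f E hE, fun i => ?_⟩
    show S (pullback.fst f (E.f i) ≫ f)
    rw [pullback.condition]
    exact S.downward_closed (h i) _
  | transitive X R S _ _ ihR ihS =>
    obtain ⟨E, hE, h⟩ := ihR
    choose F hF hF' using fun i => ihS (h i)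
    exact ⟨E.bind F, HTopPh.isPhCover_bind E hE F hF, fun i => hF' i.1 i.2⟩

theorem refines_ph : Refines phPrecoverage.{u} := fun T R hR t => by
  obtain ⟨E, hE, hER⟩ := exists_phCover_le hR
  obtain ⟨A, hA, ht, -⟩ := exists_isAffineOpen_mem_and_subset (U := (⊤ : T.Opens)) (x := t) trivial
  obtain ⟨F, hF, hr⟩ := hE.2 ⟨A, hA⟩
  obtain ⟨U', f, ι, hp, hs, ho, hc, hcov⟩ := hF.exists_proper
  refine ⟨A.toScheme, U', A.ι, f, inferInstance, ⟨⟨t, ht⟩, rfl⟩, hp, hs, fun z => ?_⟩
  obtain ⟨j, x, hx⟩ := hcov z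
  haveI := ho j
  obtain ⟨i, h, hh⟩ := hr j
  refine ⟨(ι j).opensRange, ⟨x, hx⟩, ?_⟩
  have e : (ι j).opensRange.ι ≫ f ≫ A.ι = ((ι j).isoOpensRange.inv ≫ h) ≫ E.f i := by
    rw [Category.assoc, hh, ← hc j, ← Scheme.Hom.isoOpensRange_inv_comp (ι j)]
    simp only [Category.assoc]
  rw [e]
  exact R.downward_closed (hER i) _

theorem refines_h : Refines hPrecoverage.{u} := fun _ R hR t =>
  refines_ph R (Precoverage.toGrothendieck_mono h_le_ph _ hR) t

end Groth.Agent.BigPBC
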